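import Groth.Agent.KFlatLib.Scheme.ProjModule
import Groth.Agent.QCoh.TensorSections
import Groth.Agent.QCoh.PullbackBC
import Groth.Agent.RPSM.PushColim


/-!
# The projection formula for an affine morphism and quasi-coherent modules
-/

set_option autoImplicit false
set_option linter.style.haveILetI false
set_option backward.isDefEq.respectTransparency false
set_option backward.isDefEq.respectTransparency.types false

universe u

open CategoryTheory CategoryTheory.Limits AlgebraicGeometry TopologicalSpace Opposite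
open scoped TensorProduct

namespace Groth.Agent.SerreVan45

open Groth.Agent.KFlatLib

variable {X Y : Scheme.{u}} (f : X ⟶ Y) (M : X.Modules) (N : Y.Modules)

/-- The projection map on simple tensors. -/
theorem projMod_tmS (U : Y.Opens) (m : Γ(M, f ⁻¹ᵁ U)) (n : Γ(N, U)) :
    (projMod f M N).app U (QCoh.tmS ((Scheme.Modules.pushforward f).obj M) N
      (show Γ((Scheme.Modules.pushforward f).obj M, U) from m) n) =
    (show Γ((Scheme.Modules.pushforward f).obj ((DCoh.tensorBi.obj M).obj ((Scheme.Modules.pullback f).obj N)), U)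
      from QCoh.tmS M ((Scheme.Modules.pullback f).obj N) m (pb f n)) := by
  let adj := Scheme.Modules.pullbackPushforwardAdjunction f
  let m' : (DCoh.toP.obj ((Scheme.Modules.pushforward f).obj M)).obj (op U) := m
  show (DCoh.toP.map (adj.homEquiv _ _ (projPre f M N))).app (op U) (tmSh _ N m' n) = _
  rw [Adjunction.homEquiv_unit, projPre]
  show (DCoh.toP.map ((DCoh.tensorBi.map (adj.counit.app M)).app _)).app (op (f ⁻¹ᵁ U))
    ((DCoh.toP.map (pullTensorHom f ((Scheme.Modules.pushforward f).obj M) N)).app (op (f ⁻¹ᵁ U))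
      (pb f (tmSh _ N m' n))) = _
  rw [pullTensorHom_pb]
  refine (tmSh_naturality_left _ _ _ _).trans ?_
  congr 1
  exact congrArg (fun g : (Scheme.Modules.pushforward f).obj M ⟶ _ => (DCoh.toP.map g).app (op U) m')
    (adj.right_triangle_components M)

/-- **The projection formula for an affine morphism and quasi-coherent modules.** -/
theorem isIso_projMod [IsAffineHom f] (hM : Coh.IsQCoh M) (hN : Coh.IsQCoh N) : IsIso (projMod f M N) := by
  refine RPSM.isIso_of_bijective_affines _ fun V => ?_
  obtain ⟨V, hV⟩ := V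
  let P := (Scheme.Modules.pullback f).obj N
  let fM := (Scheme.Modules.pushforward f).obj M
  let W : X.Opens := f ⁻¹ᵁ V
  have hW : IsAffineOpen W := hV.preimage f
  have hP : Coh.IsQCoh P := QCoh.isQCoh_pullback f hN
  have hfM : Coh.IsQCoh fM := QCoh.isQCoh_pushforward f hM
  letI : Algebra Γ(Y, V) Γ(X, W) := (f.appLE V W le_rfl).hom.toAlgebra
  letI : Module Γ(Y, V) Γ(P, W) := Module.compHom _ (algebraMap Γ(Y, V) Γ(X, W))
  haveI : IsScalarTower Γ(Y, V) Γ(X, W) Γ(P, W) := .of_algebraMap_smul fun _ _ => rfl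
  letI : Module Γ(Y, V) Γ(M, W) := Module.compHom _ (algebraMap Γ(Y, V) Γ(X, W))
  haveI : IsScalarTower Γ(Y, V) Γ(X, W) Γ(M, W) := .of_algebraMap_smul fun _ _ => rfl
  let l : Γ(N, V) →ₗ[Γ(Y, V)] Γ(P, W) :=
    { toFun := QCoh.pullSec f N le_rfl
      map_add' := QCoh.pullSec_add f N le_rfl
      map_smul' := fun r x => QCoh.pullSec_smul f N le_rfl r x }
  have hl : IsBaseChange Γ(X, W) l := QCoh.isBaseChange_pullback hV f hW hN le_rfl (fun _ => rfl) l fun _ => rfl
  let e₀ : Γ(fM, V) →ₗ[Γ(Y, V)] Γ(M, W) :=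
    { toFun := fun m => m
      map_add' := fun _ _ => rfl
      map_smul' := fun r m => by
        show f.app V r • (show Γ(M, W) from m) = f.appLE V W le_rfl r • (show Γ(M, W) from m)
        rw [Scheme.Hom.appLE_eq_app] }
  let e : Γ(fM, V) ≃ₗ[Γ(Y, V)] Γ(M, W) := LinearEquiv.ofBijective e₀ Function.bijective_id
  let T : Γ(fM, V) ⊗[Γ(Y, V)] Γ(N, V) ≃+ Γ(M, W) ⊗[Γ(X, W)] Γ(P, W) :=
    ((TensorProduct.congr e (LinearEquiv.refl _ _)).toAddEquiv.trans
      (TensorProduct.AlgebraTensorModule.cancelBaseChange Γ(Y, V) Γ(X, W) Γ(X, W) Γ(M, W) Γ(N, V)).symm.toAddEquiv).trans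
      (TensorProduct.congr (LinearEquiv.refl _ _) hl.equiv).toAddEquiv
  have hsrc := QCoh.bijective_tmLin hfM hN hV
  have htgt := QCoh.bijective_tmLin hM hP hW
  have key : ∀ z, (projMod f M N).app V (QCoh.tmLin fM N V z) =
      (show Γ((Scheme.Modules.pushforward f).obj ((DCoh.tensorBi.obj M).obj P), V) from QCoh.tmLin M P W (T z)) := by
    intro z
    induction z using TensorProduct.induction_on with
    | zero => rw [map_zero, map_zero, map_zero, map_zero]
    | add a b ha hb => rw [map_add, map_add, ha, hb, map_add, map_add]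
    | tmul m n =>
      refine (projMod_tmS f M N V m n).trans ?_
      have hT : T (m ⊗ₜ n) = (show Γ(M, W) from m) ⊗ₜ[Γ(X, W)] l n := by
        simp [T, e, e₀, hl.equiv_tmul]
      rw [hT]
      show QCoh.tmS M P (show Γ(M, W) from m) (pb f n) = QCoh.tmS M P (show Γ(M, W) from m) (l n)
      congr 1
      show _ = P.presheaf.map (homOfLE _).op _
      rw [show (homOfLE (le_refl W)).op = 𝟙 _ from rfl, CategoryTheory.Functor.map_id]
      rfl
  have : ((projMod f M N).app V : _ → _) ∘ QCoh.tmLin fM N V =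
      (fun w => (show Γ((Scheme.Modules.pushforward f).obj ((DCoh.tensorBi.obj M).obj P), V) from
        QCoh.tmLin M P W w)) ∘ T := funext key
  refine (Function.Bijective.of_comp_iff _ hsrc).1 ?_
  rw [this]
  exact htgt.comp T.bijective

end Groth.Agent.SerreVan45
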