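import Groth.Agent.Lib.AmpleEmbed
import Groth.Agent.ProjUPX.Sections
import Mathlib.AlgebraicGeometry.ProjectiveSpectrum.Basic

/-!
# Homogeneous forms as sections of twists; avoidance of finitely many points
-/

set_option autoImplicit false
set_option linter.style.haveILetI false
set_option backward.isDefEq.respectTransparency false
set_option backward.isDefEq.respectTransparency.types false

universe u

open CategoryTheory AlgebraicGeometry TopologicalSpace Opposite HomogeneousLocalization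

namespace Groth.Agent.SerreVan45

open Groth.Agent

variable {R A : Type u} [CommRing R] [CommRing A] [Algebra R A] (𝒜 : ℕ → Submodule R A) [GradedAlgebra 𝒜]

/-- A form of degree `d` as a global section of `O(d)`. -/
noncomputable def secDeg {d : ℕ} {a : A} (ha : a ∈ 𝒜 d) : Γ(Twist.twist 𝒜 (d : ℤ), ⊤) :=
  Twist.globalOf 𝒜 ⟨a, ha⟩

lemma secDeg_apply {d : ℕ} {a : A} (ha : a ∈ 𝒜 d) {V : (Proj 𝒜).Opens} (x : V) :
    ((show Twist.sectN (𝒜 := 𝒜) (d : ℤ) (op V) from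
      AModX.res _ (le_top : V ≤ ⊤) (secDeg 𝒜 ha)).1 x).1 = (Localization.mk a 1 : Twist.Loc 𝒜 x.1) :=
  rfl

lemma loc_aux_deg (p : Ideal A) [p.IsPrime] (a t : A) (d : ℕ) (_ht : t ∉ p)
    (hle : Submonoid.powers t ≤ Submonoid.comap (RingHom.id A) p.primeCompl) :
    (Localization.mk a 1 : Localization.AtPrime p) =
      IsLocalization.map (S := Localization.Away t) (Localization.AtPrime p) (RingHom.id A) hle
        (Localization.mk a ⟨t ^ d, d, rfl⟩) * Localization.mk (t ^ d) 1 := by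
  rw [Localization.mk_eq_mk' (M := Submonoid.powers t), IsLocalization.map_mk',
    ← Localization.mk_eq_mk', Localization.mk_mul, Localization.mk_eq_mk_iff,
    Localization.r_iff_exists]
  exact ⟨1, by simp; ring⟩

/-- The frame `t ^ d` of `O(d)` where `t` does not vanish. -/
noncomputable def powFrame {t : A} (ht : t ∈ 𝒜 1) (d : ℕ) : Γ(Twist.twist 𝒜 (d : ℤ), Proj.basicOpen 𝒜 t) :=
  PnCoh.twPow ht (d : ℤ) (U := Proj.basicOpen 𝒜 t) fun x => x.2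

lemma isFrame_powFrame {t : A} (ht : t ∈ 𝒜 1) (d : ℕ) : InvX.IsFrame (powFrame 𝒜 ht d) := by
  intro V hV
  have hU : PnCoh.NonVan (𝒜 := 𝒜) t V := fun x => hV x.2
  have h : (fun r : Γ(Proj 𝒜, V) => r • AModX.res (Twist.twist 𝒜 (d : ℤ)) hV (powFrame 𝒜 ht d)) =
      fun r => (show Γ(Twist.twist 𝒜 (d : ℤ), V) from PnCoh.trivMap ht (d : ℤ) hU r) := rfl
  rw [h]
  exact PnCoh.trivMap_bijective ht (d : ℤ) hU

lemma secDeg_eq_smul {d : ℕ} {a t : A} (ha : a ∈ 𝒜 d) (ht : t ∈ 𝒜 1) :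
    AModX.res (Twist.twist 𝒜 (d : ℤ)) (le_top : Proj.basicOpen 𝒜 t ≤ ⊤) (secDeg 𝒜 ha) =
      (Proj.awayToSection 𝒜 t).hom (Away.mk 𝒜 ht d a (by rwa [smul_eq_mul, mul_one])) •
        powFrame 𝒜 ht d := by
  refine Subtype.ext (funext fun x => Subtype.ext ?_)
  refine (secDeg_apply 𝒜 ha x).trans (Eq.trans ?_ (Twist.coe_smul_val (d : ℤ) x.1 _ _).symm)
  erw [ProjectiveSpectrum.Proj.awayToSection_apply, PnCoh.twPow_apply]
  rw [Away.val_mk]
  refine (loc_aux_deg _ a t d x.2 (Submonoid.powers_le.2 x.2)).trans ?_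
  congr 1
  simp [Localization.mk_eq_mk_iff, Localization.r_iff_exists]

lemma basicOpen_away {d : ℕ} (hd : 0 < d) {a t : A} (ha : a ∈ 𝒜 d) (ht : t ∈ 𝒜 1) :
    (Proj 𝒜).basicOpen ((Proj.awayToSection 𝒜 t).hom (Away.mk 𝒜 ht d a (by rwa [smul_eq_mul, mul_one]))) =
      Proj.basicOpen 𝒜 t ⊓ Proj.basicOpen 𝒜 a := by
  let c := (Proj.awayToSection 𝒜 t).hom (Away.mk 𝒜 ht d a (by rwa [smul_eq_mul, mul_one]))
  have e1 : (⊤ : (Spec (CommRingCat.of (Away 𝒜 t))).Opens) ≤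
      Proj.awayι 𝒜 t ht one_pos ⁻¹ᵁ Proj.basicOpen 𝒜 t := by
    rw [← Proj.opensRange_awayι 𝒜 t ht one_pos, Scheme.Hom.preimage_opensRange]
  have key : Proj.awayι 𝒜 t ht one_pos ⁻¹ᵁ (Proj 𝒜).basicOpen c =
      Proj.awayι 𝒜 t ht one_pos ⁻¹ᵁ Proj.basicOpen 𝒜 a := by
    rw [← top_inf_eq (Proj.awayι 𝒜 t ht one_pos ⁻¹ᵁ (Proj 𝒜).basicOpen c), ← Scheme.basicOpen_appLE (e := e1),
      ← CommRingCat.comp_apply, ProjPt.awayι_appLE, basicOpen_eq_of_affine,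
      Proj.awayι_preimage_basicOpen 𝒜 ht one_pos ha hd]
    simp [Away.isLocalizationElem]
  refine Opens.ext (Set.ext fun y => ?_)
  constructor
  · intro hy
    have hyt : y ∈ Proj.basicOpen 𝒜 t := (Proj 𝒜).basicOpen_le _ hy
    refine ⟨hyt, ?_⟩
    rw [← Proj.opensRange_awayι 𝒜 t ht one_pos] at hyt
    obtain ⟨z, rfl⟩ := hyt
    exact (congrArg (fun W : (Spec (CommRingCat.of (Away 𝒜 t))).Opens => z ∈ W) key).mp hy
  · rintro ⟨hyt, hya⟩
    rw [SetLike.mem_coe, ← Proj.opensRange_awayι 𝒜 t ht one_pos] at hyt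
    obtain ⟨z, rfl⟩ := hyt
    exact (congrArg (fun W : (Spec (CommRingCat.of (Away 𝒜 t))).Opens => z ∈ W) key).mpr hya

/-- A form of positive degree generates `O(d)` exactly where it does not vanish. -/
theorem genLocus_secDeg {κ : Type*} (g : κ → A) (hg : ∀ j, g j ∈ 𝒜 1)
    (hcov : ⨆ j, Proj.basicOpen 𝒜 (g j) = ⊤) {d : ℕ} (hd : 0 < d) {a : A} (ha : a ∈ 𝒜 d) :
    CohB1.genLocus (Twist.twist 𝒜 (d : ℤ)) (InvX.ofSect (secDeg 𝒜 ha)) = Proj.basicOpen 𝒜 a := by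
  have key : ∀ j, CohB1.genLocus (Twist.twist 𝒜 (d : ℤ)) (InvX.ofSect (secDeg 𝒜 ha)) ⊓ Proj.basicOpen 𝒜 (g j) =
      Proj.basicOpen 𝒜 (g j) ⊓ Proj.basicOpen 𝒜 a := fun j =>
    (InvX.genLocus_inf (InvX.ofSect (secDeg 𝒜 ha)) (isFrame_powFrame 𝒜 (hg j) d)
      (by rw [InvX.one_ofSect]; exact secDeg_eq_smul 𝒜 ha (hg j))).trans (basicOpen_away 𝒜 hd ha (hg j))
  refine Opens.ext (Set.ext fun x => ?_)
  obtain ⟨j, hj⟩ := Opens.mem_iSup.1 (hcov.ge (trivial : x ∈ (⊤ : (Proj 𝒜).Opens)))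
  have h := congrArg (fun W : (Proj 𝒜).Opens => x ∈ W) (key j)
  simp only [Opens.mem_inf, eq_iff_iff] at h
  exact ⟨fun hx => (h.1 ⟨hx, hj⟩).2, fun hx => (h.2 ⟨hj, hx⟩).1⟩

/-- **Homogeneous prime avoidance.** -/
theorem exists_form {N : ℕ} {k : Type u} [Field k] (F : Set ↥(CohB1.ProjSpace N k)) (hF : F.Finite) :
    ∃ (d : ℕ) (l : MvPolynomial (Fin (N + 1)) k), 0 < d ∧ l ∈ CohB1.polyGrading N k d ∧
      ∀ y ∈ F, y ∈ Proj.basicOpen (CohB1.polyGrading N k) l := by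
  classical
  let 𝔸 := CohB1.polyGrading N k
  let I : ↥(CohB1.ProjSpace N k) → Ideal (MvPolynomial (Fin (N + 1)) k) := fun y => y.asHomogeneousIdeal.toIdeal
  have hIp : ∀ y, (I y).IsPrime := fun y => y.isPrime
  let J := (hF.toFinset.image I)
  let K := J.filter fun P => ∀ Q ∈ J, P ≤ Q → Q ≤ P
  have hg : ∀ P ∈ K, ∀ Q ∈ K, P ≠ Q → ∃ (i : ℕ) (g : MvPolynomial (Fin (N + 1)) k),
      g ∈ 𝔸 i ∧ g ∈ Q ∧ g ∉ P := by
    intro P hP Q hQ hPQ
    obtain ⟨hPJ, hPm⟩ := Finset.mem_filter.1 hP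
    obtain ⟨hQJ, hQm⟩ := Finset.mem_filter.1 hQ
    obtain ⟨y, -, rfl⟩ := Finset.mem_image.1 hQJ
    have hn : ¬ I y ≤ P := fun h => hPQ (le_antisymm (hQm P hPJ h) h)
    obtain ⟨f, hf, hfP⟩ := SetLike.not_le_iff_exists.1 hn
    by_contra! hcon
    refine hfP (by
      rw [← DirectSum.sum_support_decompose 𝔸 f]
      exact sum_mem fun i _ => hcon i _ (SetLike.coe_mem _) (y.asHomogeneousIdeal.isHomogeneous i hf))
  have hh : ∀ P ∈ K, ∃ (d : ℕ) (h : MvPolynomial (Fin (N + 1)) k), 0 < d ∧ h ∈ 𝔸 d ∧ h ∉ P ∧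
      ∀ Q ∈ K, Q ≠ P → h ∈ Q := by
    intro P hP
    obtain ⟨y, -, rfl⟩ := Finset.mem_image.1 (Finset.mem_filter.1 hP).1
    obtain ⟨i, hi⟩ := ProjUPX.cov_X y
    choose! e g hge hgQ hgP using fun Q hQ hne => hg _ hP Q hQ hne
    refine ⟨1 + ∑ Q ∈ K.erase (I y), e Q, MvPolynomial.X i * ∏ Q ∈ K.erase (I y), g Q, Nat.add_pos_left one_pos _,
      SetLike.mul_mem_graded (ProjPt.X_mem i) (SetLike.prod_mem_graded (A := 𝔸) (i := e) (g := g) fun Q hQ =>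
        hge Q (Finset.mem_of_mem_erase hQ) (Finset.ne_of_mem_erase hQ).symm), fun hmem => ?_, fun Q hQ hne => ?_⟩
    · rcases (hIp y).mem_or_mem hmem with h | h
      · exact hi h
      · obtain ⟨Q, hQ, hQm⟩ := (hIp y).prod_mem_iff.1 h
        exact hgP Q (Finset.mem_of_mem_erase hQ) (Finset.ne_of_mem_erase hQ).symm hQm
    · exact Ideal.mul_mem_left _ _ (Ideal.prod_mem _ (Finset.mem_erase.2 ⟨hne, hQ⟩) (hgQ Q hQ hne.symm))
  choose! d h hd hhd hhP hhQ using hh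
  have hD : 0 < ∏ P ∈ K, d P := Finset.prod_pos hd
  refine ⟨∏ P ∈ K, d P, ∑ P ∈ K, h P ^ ((∏ Q ∈ K, d Q) / d P), hD, sum_mem fun P hP => ?_, fun y hy => ?_⟩
  · have := SetLike.pow_mem_graded ((∏ Q ∈ K, d Q) / d P) (hhd P hP)
    rwa [smul_eq_mul, Nat.div_mul_cancel (Finset.dvd_prod_of_mem d hP)] at this
  · obtain ⟨P, hyP, hPmax⟩ := J.exists_le_maximal
      (Finset.mem_image_of_mem I (hF.mem_toFinset.2 hy) : I y ∈ J)
    have hPK : P ∈ K := Finset.mem_filter.2 ⟨hPmax.prop, fun Q hQ hle => hPmax.le_of_ge hQ hle⟩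
    obtain ⟨z, -, rfl⟩ := Finset.mem_image.1 hPmax.prop
    intro hmem
    have h1 := hyP hmem
    rw [← Finset.add_sum_erase _ _ hPK] at h1
    have h2 : ∑ Q ∈ K.erase (I z), h Q ^ ((∏ Q ∈ K, d Q) / d Q) ∈ I z := sum_mem fun Q hQ =>
      Ideal.pow_mem_of_mem _ (hhQ Q (Finset.mem_of_mem_erase hQ) _ hPK (Finset.ne_of_mem_erase hQ).symm) _
        (Nat.div_pos (Nat.le_of_dvd hD (Finset.dvd_prod_of_mem d (Finset.mem_of_mem_erase hQ)))
          (hd Q (Finset.mem_of_mem_erase hQ)))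
    exact hhP _ hPK ((hIp z).mem_of_pow_mem _ (((I z).add_mem_iff_left h2).1 h1))

end Groth.Agent.SerreVan45
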