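import Groth.Agent.SerreVan45.Adjoint
import Groth.Agent.SerreVan45.ProjAffine
import Groth.Agent.SheafHomX.Basic
import Groth.Agent.SurfInt.Basic
import Groth.Agent.SurfInt.Curve
import Groth.Agent.ProjUPX.Affine

/-!
# The direct image of a twisted upper shriek is a sheaf of homomorphisms
-/

set_option autoImplicit false
set_option linter.style.haveILetI false

universe u

open CategoryTheory CategoryTheory.Limits AlgebraicGeometry

noncomputable section

namespace Groth.Agent.SerreVan45

open Groth.Agent.SurfInt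

/-- Objects with naturally bijective maps into them from quasi-coherent modules are isomorphic. -/
theorem nonempty_iso_of_homs {P : Scheme.{u}} {H H' : P.Modules} (hH : Coh.IsQCoh H) (hH' : Coh.IsQCoh H')
    (E : ∀ N : P.Modules, Coh.IsQCoh N → (N ⟶ H) → (N ⟶ H'))
    (hE : ∀ N hN, Function.Bijective (E N hN))
    (hnat : ∀ N N' (hN : Coh.IsQCoh N) (hN' : Coh.IsQCoh N') (g : N' ⟶ N) (a : N ⟶ H),
      E N' hN' (g ≫ a) = g ≫ E N hN a) : Nonempty (H ≅ H') := by
  obtain ⟨ψ, hψ⟩ := (hE H' hH').2 (𝟙 H')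
  have h : ∀ N hN (a : N ⟶ H), E N hN a = a ≫ E H hH (𝟙 H) := fun N hN a => by
    rw [← hnat H N hH hN a (𝟙 H), Category.comp_id]
  refine ⟨⟨E H hH (𝟙 H), ψ, (hE H hH).1 ?_, (h H' hH' ψ).symm.trans hψ⟩⟩
  rw [hnat H' H hH' hH, hψ, Category.comp_id]

variable {X P : Scheme.{u}} (π : X ⟶ P) (F I : X.Modules)

/-- The projection map as a natural transformation. -/
def projNat (A : X.Modules) : DCoh.tensorBi.obj ((Scheme.Modules.pushforward π).obj A) ⟶
    Scheme.Modules.pullback π ⋙ DCoh.tensorBi.obj A ⋙ Scheme.Modules.pushforward π where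
  app N := KFlatLib.projMod π A N
  naturality _ _ g := KFlatLib.projMod_naturality_right π A g

/-- Rewriting `(I ⊗ F) ⊗ -` as tensoring with `I` and then with `F`. -/
def twistIso : DCoh.tensorBi.obj ((AmpleVan.tw F).obj I) ≅ AmpleVan.tw I ⋙ AmpleVan.tw F :=
  ((KFlatLib.tensorBiFlipIso X).app ((AmpleVan.tw F).obj I)).symm ≪≫ (AmpleVan.twComp I F).symm

/-- The comparison `N ⊗ π_* (I ⊗ F) ⟶ π_* ((π^* N ⊗ I) ⊗ F)`. -/
def compare : AmpleVan.tw ((Scheme.Modules.pushforward π).obj ((AmpleVan.tw F).obj I)) ⟶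
    Scheme.Modules.pullback π ⋙ (AmpleVan.tw I ⋙ AmpleVan.tw F) ⋙ Scheme.Modules.pushforward π :=
  ((KFlatLib.tensorBiFlipIso P).app ((Scheme.Modules.pushforward π).obj ((AmpleVan.tw F).obj I))).hom ≫
    projNat π ((AmpleVan.tw F).obj I) ≫
      Functor.whiskerLeft (Scheme.Modules.pullback π) (Functor.whiskerRight (twistIso F I).hom (Scheme.Modules.pushforward π))

variable [IsAffineHom π] {F I} (hF : Coh.IsQCoh F)

include hF in
theorem isIso_compare (hI : Coh.IsQCoh I) {N : P.Modules} (hN : Coh.IsQCoh N) : IsIso ((compare π F I).app N) := by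
  have hIF : Coh.IsQCoh (CohB1.tensorMod I F) := KFlatLib.isQCoh_tensor hI hF
  haveI : IsIso (KFlatLib.projMod π ((AmpleVan.tw F).obj I) N) :=
    isIso_projMod π ((AmpleVan.tw F).obj I) N hIF hN
  haveI : IsIso ((projNat π ((AmpleVan.tw F).obj I)).app N) := this
  rw [compare, NatTrans.comp_app, NatTrans.comp_app]
  infer_instance

theorem isQCoh_tw {A B : X.Modules} (hA : Coh.IsQCoh A) (hB : Coh.IsQCoh B) :
    Coh.IsQCoh ((AmpleVan.tw B).obj A) := KFlatLib.isQCoh_tensor (M := A) (N := B) hA hB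

/-- `π^* N ⊗ I` as a quasi-coherent module. -/
@[reducible] def twObj (hI : Coh.IsQCoh I) (N : P.Modules) (hN : Coh.IsQCoh N) : QCohCat.QCoh X :=
  ⟨(AmpleVan.tw I).obj ((Scheme.Modules.pullback π).obj N), isQCoh_tw (QCoh.isQCoh_pullback π hN) hI⟩

/-- The twisted upper shriek as a module. -/
abbrev shriekMod (ω : P.Modules) : X.Modules := ((shriekQ π hF).obj ω).obj

section Transpose

variable (hI : Coh.IsQCoh I) {GM : X.Modules} {G : QCohCat.QCoh X} (e : (AmpleVan.tw I).obj GM ≅ G.obj)

/-- `π^* g ⊗ I` as a map of quasi-coherent modules. -/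
def twObjMap {N N' : P.Modules} (hN : Coh.IsQCoh N) (hN' : Coh.IsQCoh N') (g : N' ⟶ N) :
    twObj π hI N' hN' ⟶ twObj π hI N hN :=
  let z : (AmpleVan.tw I).obj ((Scheme.Modules.pullback π).obj N') ⟶
      (AmpleVan.tw I).obj ((Scheme.Modules.pullback π).obj N) :=
    (AmpleVan.tw I).map ((Scheme.Modules.pullback π).map g)
  ObjectProperty.homMk z

/-- Transposition of maps into `π_* GM`, as maps of modules. -/
def toTwHom (N : P.Modules) (a : N ⟶ (Scheme.Modules.pushforward π).obj GM) :
    (AmpleVan.tw I).obj ((Scheme.Modules.pullback π).obj N) ⟶ G.obj :=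
  (AmpleVan.tw I).map (((Scheme.Modules.pullbackPushforwardAdjunction π).homEquiv N GM).symm a) ≫ e.hom

/-- Transposition of maps into `π_* GM`. -/
def toTw (N : P.Modules) (hN : Coh.IsQCoh N) (a : N ⟶ (Scheme.Modules.pushforward π).obj GM) :
    twObj π hI N hN ⟶ G :=
  ObjectProperty.homMk (toTwHom π e N a)

theorem bijective_toTw [(AmpleVan.tw I).IsEquivalence] (N : P.Modules) (hN : Coh.IsQCoh N) :
    Function.Bijective (toTw π hI e N hN) := by
  constructor
  · intro a b h
    have h' : toTwHom π e N a = toTwHom π e N b := congrArg (fun q => q.hom) h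
    rw [toTwHom, toTwHom, cancel_mono] at h'
    exact ((Scheme.Modules.pullbackPushforwardAdjunction π).homEquiv N GM).symm.injective
      ((AmpleVan.tw I).map_injective h')
  · intro d
    let d' : (AmpleVan.tw I).obj ((Scheme.Modules.pullback π).obj N) ⟶ (AmpleVan.tw I).obj GM := d.hom ≫ e.inv
    refine ⟨(Scheme.Modules.pullbackPushforwardAdjunction π).homEquiv N GM ((AmpleVan.tw I).preimage d'),
      ObjectProperty.hom_ext _ ?_⟩
    show toTwHom π e N _ = d.hom
    rw [toTwHom, Equiv.symm_apply_apply, Functor.map_preimage]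
    exact (Category.assoc _ _ _).trans ((congrArg (d.hom ≫ ·) e.inv_hom_id).trans (Category.comp_id _))

theorem toTw_comp {N N' : P.Modules} (hN : Coh.IsQCoh N) (hN' : Coh.IsQCoh N') (g : N' ⟶ N)
    (a : N ⟶ (Scheme.Modules.pushforward π).obj GM) :
    toTw π hI e N' hN' (g ≫ a) =
      twObjMap π hI hN hN' g ≫ toTw π hI e N hN a :=
  ObjectProperty.hom_ext _ (by
    show toTwHom π e N' (g ≫ a) = (AmpleVan.tw I).map ((Scheme.Modules.pullback π).map g) ≫ toTwHom π e N a
    rw [toTwHom, toTwHom, Adjunction.homEquiv_naturality_left_symm, Functor.map_comp, Category.assoc])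

/-- Maps into `π_* GM` as maps out of the comparison. -/
def transpose (ω : P.Modules) (e' : (AmpleVan.tw I).obj GM ≅ shriekMod π hF ω) (N : P.Modules) (hN : Coh.IsQCoh N)
    (a : N ⟶ (Scheme.Modules.pushforward π).obj GM) :
    (AmpleVan.tw ((Scheme.Modules.pushforward π).obj ((AmpleVan.tw F).obj I))).obj N ⟶ ω :=
  (compare π F I).app N ≫ ((shriekAdj π hF).homEquiv (twObj π hI N hN) ω).symm (toTw π hI e' N hN a)

theorem bijective_transpose [(AmpleVan.tw I).IsEquivalence] (ω : P.Modules)
    (e' : (AmpleVan.tw I).obj GM ≅ shriekMod π hF ω) (N : P.Modules) (hN : Coh.IsQCoh N) :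
    Function.Bijective (transpose π hF hI ω e' N hN) := by
  haveI := isIso_compare π hF hI hN
  exact ((asIso ((compare π F I).app N)).homFromEquiv.symm.bijective.comp
    (((shriekAdj π hF).homEquiv _ ω).symm.bijective.comp (bijective_toTw π hI e' N hN)))

theorem transpose_comp (ω : P.Modules) (e' : (AmpleVan.tw I).obj GM ≅ shriekMod π hF ω) {N N' : P.Modules}
    (hN : Coh.IsQCoh N) (hN' : Coh.IsQCoh N') (g : N' ⟶ N) (a : N ⟶ (Scheme.Modules.pushforward π).obj GM) :
    transpose π hF hI ω e' N' hN' (g ≫ a) =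
      (AmpleVan.tw ((Scheme.Modules.pushforward π).obj ((AmpleVan.tw F).obj I))).map g ≫
        transpose π hF hI ω e' N hN a := by
  rw [transpose, transpose, toTw_comp π hI e' hN hN' g a, Adjunction.homEquiv_naturality_left_symm]
  exact ((compare π F I).naturality_assoc g _).symm

end Transpose

/-- **The direct image of a twist of the upper shriek is a sheaf of homomorphisms.** -/
theorem nonempty_push_shriek {M : X.Modules} (hI : PicF.IsInvertible I) (hM : ClSub.IsInverseOf M I) (ω : P.Modules)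
    (hH : Coh.IsQCoh ((SheafHomX.hom ((Scheme.Modules.pushforward π).obj (CohB1.tensorMod I F))).obj ω)) :
    Nonempty ((Scheme.Modules.pushforward π).obj (CohB1.tensorMod (shriekMod π hF ω) M) ≅
      (SheafHomX.hom ((Scheme.Modules.pushforward π).obj (CohB1.tensorMod I F))).obj ω) := by
  have hIq : Coh.IsQCoh I := ProjUPX.isQCoh_of_isInvertible hI
  have hMq : Coh.IsQCoh M := ProjUPX.isQCoh_of_isInvertible (isInvertible_of_inverseOf_right hI hM)
  let G : X.Modules := shriekMod π hF ω
  have hG : Coh.IsQCoh G := ((shriekQ π hF).obj ω).property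
  let GM := CohB1.tensorMod G M
  have hGM : Coh.IsQCoh GM := KFlatLib.isQCoh_tensor hG hMq
  let e : (AmpleVan.tw I).obj GM ≅ G := tAssoc G M I ≪≫ tMapR G hM.some ≪≫ tUnit G
  haveI := AmpleVan.isEquivalence_tw hI
  let adjH := SheafHomX.adj ((Scheme.Modules.pushforward π).obj ((AmpleVan.tw F).obj I))
  refine nonempty_iso_of_homs (QCoh.isQCoh_pushforward π hGM) hH
    (fun N hN a => adjH.homEquiv N ω (transpose π hF hIq ω e N hN a))
    (fun N hN => (adjH.homEquiv N ω).bijective.comp (bijective_transpose π hF hIq ω e N hN))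
    fun N N' hN hN' g a => ?_
  rw [transpose_comp π hF hIq ω e hN hN' g a]
  exact Adjunction.homEquiv_naturality_left _ _ _

end Groth.Agent.SerreVan45
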