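import Groth.Agent.QCoh.LocFree
import Groth.Agent.QCoh.Support
import Mathlib.AlgebraicGeometry.Morphisms.Flat
import Mathlib.AlgebraicGeometry.Morphisms.Finite

/-!
# Direct images along finite flat morphisms
-/

set_option autoImplicit false
set_option linter.style.haveILetI false
set_option backward.isDefEq.respectTransparency false
set_option backward.isDefEq.respectTransparency.types false

universe u

open CategoryTheory AlgebraicGeometry TopologicalSpace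

namespace Groth.Agent.SerreVan45

variable {X P : Scheme.{u}} (π : X ⟶ P) [IsFinite π] [IsLocallyNoetherian X]

/-- Finite locally free modules push forward to finite locally free modules along finite flat morphisms. -/
theorem isFinLocFree_push [IsLocallyNoetherian P] [Flat π] {F : X.Modules} (hF : FlatMod.IsFinLocFree F) :
    FlatMod.IsFinLocFree ((Scheme.Modules.pushforward π).obj F) := by
  have hFq := QCoh.isQCoh_of_isFinLocFree hF
  have hq : Coh.IsQCoh ((Scheme.Modules.pushforward π).obj F) := QCoh.isQCoh_pushforward π hFq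
  have hcoh : Coh.IsCoh F := QCoh.isCoh_iff_isFP.2 (QCoh.isFP_of_isFinLocFree hF)
  refine QCoh.isFlat_and_isFP_iff.1 ⟨fun y => ?_, QCoh.isCoh_iff_isFP.1 (QCoh.isCoh_pushforward_finite π hcoh)⟩
  obtain ⟨_, ⟨V, hV, rfl⟩, hy, -⟩ := P.isBasis_affineOpens.exists_subset_of_mem_open (Set.mem_univ y) isOpen_univ
  refine (QCoh.flat_sections_iff hq hV).1 ?_ y hy
  have hW : IsAffineOpen (π ⁻¹ᵁ V) := IsAffineOpen.preimage hV π
  haveI : Module.Flat Γ(X, π ⁻¹ᵁ V) Γ(F, π ⁻¹ᵁ V) :=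
    (QCoh.flat_sections_iff hFq hW).2 fun x _ => (QCoh.isFlat_and_isFP_iff.2 hF).1 x
  letI : Algebra Γ(P, V) Γ(X, π ⁻¹ᵁ V) := (π.app V).hom.toAlgebra
  haveI : Module.Flat Γ(P, V) Γ(X, π ⁻¹ᵁ V) := by
    have h := π.flat_appLE hV hW le_rfl
    rw [Scheme.Hom.appLE_eq_app] at h
    exact h
  letI : Module Γ(P, V) Γ(F, π ⁻¹ᵁ V) := Module.compHom _ (π.app V).hom
  haveI : IsScalarTower Γ(P, V) Γ(X, π ⁻¹ᵁ V) Γ(F, π ⁻¹ᵁ V) := IsScalarTower.of_algebraMap_smul fun _ _ => rfl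
  haveI := Module.Flat.trans Γ(P, V) Γ(X, π ⁻¹ᵁ V) Γ(F, π ⁻¹ᵁ V)
  exact Module.Flat.of_linearEquiv
    ({ toFun := fun x => (show Γ(F, π ⁻¹ᵁ V) from x), invFun := fun x => x, left_inv := fun _ => rfl,
       right_inv := fun _ => rfl, map_add' := fun _ _ => rfl,
       map_smul' := fun r x => QCoh.pushforward_smul π V r x } :
      Γ((Scheme.Modules.pushforward π).obj F, V) ≃ₗ[Γ(P, V)] Γ(F, π ⁻¹ᵁ V))

/-- Coherence is reflected by direct images along finite morphisms. -/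
theorem isCoh_of_push {G : X.Modules} (hG : Coh.IsQCoh G) (h : Coh.IsCoh ((Scheme.Modules.pushforward π).obj G)) :
    Coh.IsCoh G := by
  refine QCoh.isCoh_iff_isFP.2 (QCoh.isFP_of_finitePresentation hG (fun V : P.affineOpens => π ⁻¹ᵁ V.1) ?_
    (fun V => V.2.preimage π) fun V => ?_)
  · refine IsOpenCover.mk (top_le_iff.1 fun x _ => ?_)
    obtain ⟨_, ⟨V, hV, rfl⟩, hy, -⟩ := P.isBasis_affineOpens.exists_subset_of_mem_open (Set.mem_univ (π x)) isOpen_univ
    exact Opens.mem_iSup.2 ⟨⟨V, hV⟩, hy⟩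
  · haveI := IsLocallyNoetherian.component_noetherian ⟨π ⁻¹ᵁ V.1, V.2.preimage π⟩
    letI : Algebra Γ(P, V.1) Γ(X, π ⁻¹ᵁ V.1) := (π.app V.1).hom.toAlgebra
    letI : Module Γ(P, V.1) Γ(G, π ⁻¹ᵁ V.1) := Module.compHom _ (π.app V.1).hom
    haveI : IsScalarTower Γ(P, V.1) Γ(X, π ⁻¹ᵁ V.1) Γ(G, π ⁻¹ᵁ V.1) :=
      IsScalarTower.of_algebraMap_smul fun _ _ => rfl
    haveI := QCoh.finite_sections h V.2
    haveI : Module.Finite Γ(P, V.1) Γ(G, π ⁻¹ᵁ V.1) := Module.Finite.of_surjective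
      ({ toFun := fun x => (show Γ(G, π ⁻¹ᵁ V.1) from x), map_add' := fun _ _ => rfl,
         map_smul' := fun r x => QCoh.pushforward_smul π V.1 r x } :
        Γ((Scheme.Modules.pushforward π).obj G, V.1) →ₗ[Γ(P, V.1)] Γ(G, π ⁻¹ᵁ V.1)) (fun y => ⟨y, rfl⟩)
    haveI := Module.Finite.of_restrictScalars_finite Γ(P, V.1) Γ(X, π ⁻¹ᵁ V.1) Γ(G, π ⁻¹ᵁ V.1)
    exact Module.finitePresentation_of_finite _ _

end Groth.Agent.SerreVan45
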