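import Groth.Agent.SerreVan45.FlatProj
import Groth.Agent.SerreVan45.Key
import Groth.Agent.SerreVan45.PushFree
import Groth.Agent.CanonDual.PushLin
import Groth.Agent.Lib.PnDualExtPn
import Groth.Agent.Lib.PnDualSheafHom
import Groth.Agent.KFlatLib.Perfect.Tensor
import Groth.Agent.H23.PullPush
import Groth.Agent.QCoh.OpenSub
import Groth.Agent.SheafHomX.Coherent

/-!
# Serre duality for vanishing on smooth projective varieties
-/

set_option autoImplicit false
set_option linter.style.haveILetI false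

universe u

open CategoryTheory CategoryTheory.Limits AlgebraicGeometry

noncomputable section

namespace Groth.Agent.SerreVan45

open Groth.Agent.SurfInt

variable {k : Type u} [Field k]

theorem isCoh_of_finLocFree {X : Scheme.{u}} [IsLocallyNoetherian X] {M : X.Modules} (h : FlatMod.IsFinLocFree M) :
    Coh.IsCoh M :=
  QCoh.isCoh_iff_isFP.2 (QCoh.isFP_of_isFinLocFree h)

/-- Vanishing of `H^(n-q)` of the dual with coefficients in `ω` gives vanishing of `H^q` on projective space. -/
theorem subsingleton_HH_of_hom {n : ℕ} {E : (CohB1.ProjSpace n k).Modules} (hE : Coh.IsCoh E)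
    (hEf : FlatMod.IsFinLocFree E) (q : ℕ) (hq : q ≤ n)
    (h : Subsingleton (Coh.HH (CohB1.ProjSpace n k)
      ((SheafHomX.hom E).obj (Twist.twistProjSpace n k (-((n : ℤ) + 1)))) (n - q))) :
    Subsingleton (Coh.HH (CohB1.ProjSpace n k) E q) := by
  haveI : HasExt.{u} (CohB1.ProjSpace n k).Modules :=
    haveI : EnoughInjectives (CohB1.ProjSpace n k).Modules := inferInstanceAs (EnoughInjectives (SheafOfModules _))
    inferInstance
  obtain ⟨e⟩ := PnDual.nonempty_ext_linearEquiv_HH (A := k) hEf (Twist.twistProjSpace n k (-((n : ℤ) + 1))) (n - q)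
  obtain ⟨d⟩ := (PnDual.serre_duality (PnDual.goodPn_of_isCoh hE) (n - q)).1 (Nat.sub_le n q)
  haveI := h
  haveI := e.injective.subsingleton
  haveI := d.symm.injective.subsingleton
  rw [show n - (n - q) = q by omega] at this
  exact (Module.subsingleton_dual_iff k).1 this

/-- **Duality for vanishing**: for finite locally free `F` there is a coherent `G` such that `H^(n-q)(G ⊗ M) = 0`
forces `H^q(F ⊗ I) = 0` when `M` is an inverse of the invertible module `I`. -/
theorem exists_dual_vanishing {X : Scheme.{u}} [IsIntegral X] (f : X ⟶ Spec (CommRingCat.of k)) [Smooth f]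
    {N : ℕ} (ι : X ⟶ CohB1.ProjSpace N k) [IsClosedImmersion ι] (hι : ι ≫ CohB1.ProjSpace.toSpec N k = f)
    (n : ℕ) (hn : topologicalKrullDim X = n) (F : X.Modules) (hF : FlatMod.IsFinLocFree F) :
    ∃ G : X.Modules, Coh.IsCoh G ∧ ∀ (I : X.Modules), PicF.IsInvertible I → ∀ M : X.Modules,
      ClSub.IsInverseOf M I → ∀ q : ℕ, q ≤ n →
        Subsingleton (Coh.HH X (CohB1.tensorMod G M) (n - q)) →
          Subsingleton (Coh.HH X (CohB1.tensorMod F I) q) := by
  obtain ⟨π, hπ, hfin, hflat⟩ := exists_finiteFlat_projSpace f ι hι n hn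
  haveI := hfin
  haveI := hflat
  haveI : IsLocallyNoetherian X := LocallyOfFiniteType.isLocallyNoetherian f
  haveI := CurveEmbed.smooth_toSpec n k
  haveI : IsLocallyNoetherian (CohB1.ProjSpace n k) :=
    LocallyOfFiniteType.isLocallyNoetherian (CohB1.ProjSpace.toSpec n k)
  letI : X.Over (Spec (CommRingCat.of k)) := ⟨f⟩
  let ω := Twist.twistProjSpace n k (-((n : ℤ) + 1))
  have hω : FlatMod.IsFinLocFree ω := H23.PullPush.isFinLocFree_of_isInvertible
    (PnCoh.Finite.isInvertible_twist (fun j : ULift.{u} (Fin (n + 1)) => MvPolynomial.X j.down)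
      (fun j => ProjPt.X_mem j.down) (top_le_iff.1 ((AmpleEmbed.iSup_basicOpen_X n k).ge.trans
        (iSup_le fun j => le_iSup_of_le (ULift.up j) le_rfl))) _)
  have hFq : Coh.IsQCoh F := QCoh.isQCoh_of_isFinLocFree hF
  have key : ∀ I : X.Modules, PicF.IsInvertible I →
      FlatMod.IsFinLocFree ((Scheme.Modules.pushforward π).obj (CohB1.tensorMod I F)) ∧
      Coh.IsCoh ((SheafHomX.hom ((Scheme.Modules.pushforward π).obj (CohB1.tensorMod I F))).obj ω) := fun I hI => by
    have h := isFinLocFree_push π (KFlatLib.isFinLocFree_tensor (H23.PullPush.isFinLocFree_of_isInvertible hI) hF)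
    exact ⟨h, SheafHomX.isCoh_hom (isCoh_of_finLocFree h) (isCoh_of_finLocFree hω)⟩
  refine ⟨shriekMod π hFq ω, ?_, fun I hI M hM q hq hvan => ?_⟩
  · have hO : PicF.IsInvertible (Coh.structureModule X) := InvX.isInvertible_structureModule
    obtain ⟨e⟩ := nonempty_push_shriek π hFq hO ⟨tUnit _⟩ ω (key _ hO).2.1
    refine isCoh_of_push π ((shriekQ π hFq).obj ω).property ?_
    exact SheafHomX.isCoh_of_iso (((Scheme.Modules.pushforward π).mapIso (tUnit _)).symm ≪≫ e).symm (key _ hO).2
  · obtain ⟨hE, hH⟩ := key I hI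
    obtain ⟨e⟩ := nonempty_push_shriek π hFq hI hM ω hH.1
    have hMi : PicF.IsInvertible M := isInvertible_of_inverseOf_right hI hM
    have hGM : Coh.IsQCoh (CohB1.tensorMod (shriekMod π hFq ω) M) :=
      KFlatLib.isQCoh_tensor ((shriekQ π hFq).obj ω).property (ProjUPX.isQCoh_of_isInvertible hMi)
    have hIF : Coh.IsQCoh (CohB1.tensorMod I F) := KFlatLib.isQCoh_tensor (ProjUPX.isQCoh_of_isInvertible hI) hFq
    have hπ' : π ≫ (CohB1.ProjSpace n k ↘ Spec (CommRingCat.of k)) = X ↘ Spec (CommRingCat.of k) := hπ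
    obtain ⟨e₁, -⟩ := CanonDual.exists_natural_linearEquiv_push (A := k) π hπ' (n - q)
    obtain ⟨e₂, -⟩ := CanonDual.exists_natural_linearEquiv_push (A := k) π hπ' q
    have h1 : Subsingleton (Coh.HH (CohB1.ProjSpace n k)
        ((Coh.push π).obj (CohB1.tensorMod (shriekMod π hFq ω) M)) (n - q)) :=
      (e₁ _ hGM).symm.injective.subsingleton
    haveI := subsingleton_HH_of_hom (isCoh_of_finLocFree hE) hE q hq (QCoh.subsingleton_HH_of_iso e _ h1)
    exact QCoh.subsingleton_HH_of_iso (tComm I F) q ((e₂ _ hIF).injective.subsingleton)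

end Groth.Agent.SerreVan45
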