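import Groth.Agent.S14670
import Groth.Agent.CotTLib.CI

/-!
# Miracle flatness for a finite extension of regular domains
-/

set_option autoImplicit false
set_option linter.style.haveILetI false

universe u

namespace Groth.Agent.SerreVan45

open IsLocalRing

/-- A finite injective extension of regular domains is flat. -/
theorem flat_of_finite_isRegularRing (R S : Type u) [CommRing R] [IsDomain R] [IsRegularRing R] [CommRing S]
    [IsDomain S] [IsRegularRing S] [Algebra R S] [Module.Finite R S]
    (hinj : Function.Injective (algebraMap R S)) : Module.Flat R S := by
  refine Module.flat_of_isLocalized_maximal (R := R) (S := R) S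
    (fun P => Localization (Algebra.algebraMapSubmonoid S P.primeCompl))
    (fun P => (IsScalarTower.toAlgHom R S (Localization (Algebra.algebraMapSubmonoid S P.primeCompl))).toLinearMap)
    fun P _ => ?_
  let M := Algebra.algebraMapSubmonoid S P.primeCompl
  let A := Localization.AtPrime P
  let B := Localization M
  have hM : M ≤ nonZeroDivisors S := by
    rintro _ ⟨r, hr, rfl⟩
    refine mem_nonZeroDivisors_of_ne_zero fun h => hr ?_
    rw [hinj (h.trans (map_zero (algebraMap R S)).symm)]
    exact P.zero_mem
  haveI : IsDomain B := IsLocalization.isDomain_localization hM
  haveI : Module.Finite A B := Module.Finite.of_isLocalization R S P.primeCompl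
  haveI : IsNoetherianRing S := inferInstance
  haveI : IsRegularLocalRing A := IsRegularRing.isRegularLocalRing_localization P
  have hAB : Function.Injective (algebraMap A B) :=
    localizationAlgebra_injective (M := P.primeCompl) A B hinj
  haveI : Module.Flat R A := IsLocalization.flat A P.primeCompl
  haveI : Module.Flat A B := S14670.flat_of_CM A B hAB fun q _ => by
    haveI : IsRegularLocalRing (Localization.AtPrime q) := IsRegularLocalRing.of_ringEquiv
      (IsLocalization.localizationLocalizationAtPrimeIsoLocalization (M := M) q).toRingEquiv
    exact ⟨CotTLib.isCM_of_isRegularLocalRing (Localization.AtPrime q)⟩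
  exact Module.Flat.trans R A B

end Groth.Agent.SerreVan45
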