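import Groth.Agent.SerreVan45.FiniteProj
import Groth.Agent.SerreVan45.MiracleFin
import Groth.Agent.GrpSchLib.SmoothRegular
import Groth.Agent.VarDim.Local
import Groth.Agent.VarDim.Fibre
import Groth.Agent.CurveEmbed.Conic
import Groth.Agent.H23.PnChart
import Groth.Agent.S10829
import Mathlib.AlgebraicGeometry.Morphisms.Flat

/-!
# A finite flat projection of a smooth projective variety to projective space
-/

set_option autoImplicit false
set_option linter.style.haveILetI false
set_option backward.isDefEq.respectTransparency false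
set_option backward.isDefEq.respectTransparency.types false

universe u

open CategoryTheory AlgebraicGeometry TopologicalSpace

namespace Groth.Agent.SerreVan45

variable {k : Type u} [Field k]

/-- The ring of a smooth affine open is regular. -/
theorem isRegularRing_sections {X : Scheme.{u}} (f : X ⟶ Spec (CommRingCat.of k)) [Smooth f] {U : X.Opens}
    (hU : IsAffineOpen U) : IsRegularRing Γ(X, U) := by
  haveI := LocallyOfFiniteType.isLocallyNoetherian f
  haveI : IsNoetherianRing Γ(X, U) := IsLocallyNoetherian.component_noetherian ⟨U, hU⟩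
  refine isRegularRing_iff.2 fun p _ => ?_
  let x : X := hU.fromSpec ⟨p, inferInstance⟩
  have hx : x ∈ U := VarDim.fromSpec_mem hU _
  letI := TopCat.Presheaf.algebra_section_stalk X.presheaf (⟨x, hx⟩ : U)
  haveI : IsLocalization.AtPrime (X.presheaf.stalk x) p := hU.isLocalization_stalk' ⟨p, inferInstance⟩ hx
  haveI := GrpSchLib.isRegularLocalRing_stalk_of_smooth f x
  exact IsRegularLocalRing.of_ringEquiv
    (IsLocalization.algEquiv p.primeCompl (X.presheaf.stalk x) (Localization.AtPrime p)).toRingEquiv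

/-- The dimension of a nonempty affine open of a variety. -/
theorem ringKrullDim_sections {X : Scheme.{u}} [IsIntegral X] (f : X ⟶ Spec (CommRingCat.of k))
    [LocallyOfFiniteType f] [QuasiCompact f] {U : X.Opens} (hU : IsAffineOpen U) [Nonempty U] :
    ringKrullDim Γ(X, U) = topologicalKrullDim X := by
  haveI := QuasiCompact.compactSpace_of_compactSpace f
  obtain ⟨η, hη, -, hdim⟩ := VarDim.exists_deg_eq_topologicalKrullDim f
  have hgen : genericPoint X = η := hη _ (genericPoint_specializes η)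
  let b : PrimeSpectrum Γ(X, U) := ⟨⊥, Ideal.isPrime_bot⟩
  have hb : hU.fromSpec b = genericPoint X := by
    refine Specializes.antisymm ?_ (genericPoint_specializes _) |>.eq
    obtain ⟨⟨y, hy⟩⟩ := ‹Nonempty U›
    obtain ⟨p, hp⟩ := VarDim.exists_fromSpec_eq hU ((genericPoint_specializes y).mem_open U.2 hy)
    rw [← hp, VarDim.fromSpec_specializes_iff]
    exact bot_le (a := p.asIdeal)
  have h := VarDim.deg_eq_coheight f hU b
  rw [hb, hgen] at h
  rw [hdim, ← h, VarDim.coheight_eq_ringKrullDim_quotient]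
  exact (ringKrullDim_eq_of_ringEquiv (RingEquiv.quotientBot _)).symm

/-- A finite morphism of smooth varieties of the same dimension is flat. -/
theorem flat_of_finite {X P : Scheme.{u}} [IsIntegral X] [IsIntegral P] (f : X ⟶ Spec (CommRingCat.of k))
    [Smooth f] [QuasiCompact f] (g : P ⟶ Spec (CommRingCat.of k)) [Smooth g] [QuasiCompact g]
    (π : X ⟶ P) [IsFinite π] (n : ℕ) (hX : topologicalKrullDim X = n) (hP : topologicalKrullDim P = n) :
    Flat π := by
  have key : ∀ V : P.Opens, IsAffineOpen V → (π.app V).hom.Flat := fun V hV => by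
    letI := (π.app V).hom.toAlgebra
    rw [RingHom.Flat]
    haveI hfin : Module.Finite Γ(P, V) Γ(X, π ⁻¹ᵁ V) := π.finite_app V hV
    have hW : IsAffineOpen (π ⁻¹ᵁ V) := hV.preimage π
    rcases subsingleton_or_nontrivial Γ(X, π ⁻¹ᵁ V) with hs | hs
    · exact inferInstance
    haveI : Nonempty (π ⁻¹ᵁ V : X.Opens) := by
      by_contra hne
      rw [not_nonempty_iff] at hne
      exact not_subsingleton Γ(X, π ⁻¹ᵁ V) (by
        have : π ⁻¹ᵁ V = ⊥ := Opens.ext (Set.eq_empty_of_forall_notMem fun x hx => hne.false ⟨x, hx⟩)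
        rw [this]
        infer_instance)
    haveI : Nonempty (V : P.Opens) := (‹Nonempty (π ⁻¹ᵁ V : X.Opens)›).map fun x => ⟨π x.1, x.2⟩
    haveI := isRegularRing_sections g hV
    haveI := isRegularRing_sections f hW
    refine flat_of_finite_isRegularRing _ _ ?_
    rw [RingHom.injective_iff_ker_eq_bot, eq_bot_iff]
    intro r hr
    by_contra hr0
    let K := RingHom.ker (algebraMap Γ(P, V) Γ(X, π ⁻¹ᵁ V))
    have h1 : ringKrullDim Γ(X, π ⁻¹ᵁ V) = ringKrullDim (Γ(P, V) ⧸ K) := by
      letI := (RingHom.kerLift (algebraMap Γ(P, V) Γ(X, π ⁻¹ᵁ V))).toAlgebra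
      haveI : IsScalarTower Γ(P, V) (Γ(P, V) ⧸ K) Γ(X, π ⁻¹ᵁ V) := .of_algebraMap_eq fun _ => rfl
      haveI : Algebra.IsIntegral (Γ(P, V) ⧸ K) Γ(X, π ⁻¹ᵁ V) :=
        haveI : Module.Finite (Γ(P, V) ⧸ K) Γ(X, π ⁻¹ᵁ V) :=
          Module.Finite.of_restrictScalars_finite Γ(P, V) _ _
        Algebra.IsIntegral.of_finite _ _
      haveI : FaithfulSMul (Γ(P, V) ⧸ K) Γ(X, π ⁻¹ᵁ V) :=
        (faithfulSMul_iff_algebraMap_injective _ _).2 (RingHom.kerLift_injective _)
      exact VarDim.ringKrullDim_eq_of_isIntegral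
    have h2 : ringKrullDim (Γ(P, V) ⧸ K) ≤ ringKrullDim (Γ(P, V) ⧸ Ideal.span {r}) :=
      ringKrullDim_le_of_surjective (Ideal.Quotient.factor ((Ideal.span_singleton_le_iff_mem _).2 hr))
        (Ideal.Quotient.factor_surjective _)
    have h3 := ringKrullDim_quotient_succ_le_of_nonZeroDivisor (mem_nonZeroDivisors_of_ne_zero
      (show r ≠ 0 from hr0))
    rw [ringKrullDim_sections g hV, hP] at h3
    rw [ringKrullDim_sections f hW, hX] at h1
    have h4 := (add_le_add (h1.trans_le h2) (le_refl 1)).trans h3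
    norm_cast at h4
    omega
  refine ⟨fun {U} hU {W} hW e => ?_⟩
  have h := Scheme.Hom.flat_appLE (𝟙 X) (hU.preimage π) hW (by simpa using e)
  rw [Scheme.Hom.appLE, Scheme.Hom.id_app, Category.id_comp] at h
  rw [Scheme.Hom.appLE, CommRingCat.hom_comp]
  exact RingHom.Flat.comp (key U hU) h

/-- A finite flat projection. -/
theorem exists_finiteFlat_projSpace {X : Scheme.{u}} [IsIntegral X] (f : X ⟶ Spec (CommRingCat.of k))
    [Smooth f] {N : ℕ} (ι : X ⟶ CohB1.ProjSpace N k) [IsClosedImmersion ι]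
    (hι : ι ≫ CohB1.ProjSpace.toSpec N k = f) (n : ℕ) (hn : topologicalKrullDim X = n) :
    ∃ π : X ⟶ CohB1.ProjSpace n k, π ≫ CohB1.ProjSpace.toSpec n k = f ∧ IsFinite π ∧ Flat π := by
  obtain ⟨π, hπ, hfin⟩ := exists_finite_projSpace f ι hι n hn.le
  refine ⟨π, hπ, hfin, ?_⟩
  haveI := hfin
  haveI := PnCoh.Chow.isProper_toSpec n k
  haveI := PnCoh.Chow.isProper_toSpec N k
  haveI : QuasiCompact f := hι ▸ inferInstance
  haveI := CurveEmbed.smooth_toSpec n k
  haveI := H23.PnChart.isIntegral_projSpace n k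
  exact flat_of_finite f (CohB1.ProjSpace.toSpec n k) π n hn (S10829.result k n)

end Groth.Agent.SerreVan45
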