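import Groth.Agent.Lib.AmpleEmbed
import Groth.Agent.ProjUPX.Sections
import Groth.Agent.SerreVan45.FormDeg
import Mathlib.AlgebraicGeometry.Morphisms.Finite

/-!
# A finite projection of a projective scheme to projective space of the same dimension
-/

set_option autoImplicit false
set_option linter.style.haveILetI false
set_option backward.isDefEq.respectTransparency false
set_option backward.isDefEq.respectTransparency.types false

universe u

open CategoryTheory AlgebraicGeometry TopologicalSpace MvPolynomial Order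

namespace Groth.Agent.SerreVan45

open Groth.Agent Groth.Agent.H23

variable {k : Type u} [Field k] {X : Scheme.{u}}

/-- Forms of one degree without common zero on a subscheme of dimension at most `n`. -/
theorem exists_forms {N : ℕ} (ι : X ⟶ CohB1.ProjSpace N k) [IsNoetherian X] (n : ℕ)
    (hn : topologicalKrullDim X ≤ n) :
    ∃ (D : ℕ) (_ : 0 < D) (l : Fin (n + 1) → MvPolynomial (Fin (N + 1)) k),
      (∀ i, l i ∈ CohB1.polyGrading N k D) ∧
      ∀ x : X, ∃ i, ι x ∈ Proj.basicOpen (CohB1.polyGrading N k) (l i) := by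
  suffices key : ∀ j : ℕ, ∃ (D : ℕ) (_ : 0 < D) (l : Fin j → MvPolynomial (Fin (N + 1)) k),
      (∀ i, l i ∈ CohB1.polyGrading N k D) ∧
      ∀ T : IrreducibleCloseds X, (∀ i, ∀ x ∈ (T : Set X), ι x ∉ Proj.basicOpen (CohB1.polyGrading N k) (l i)) →
        height T + j ≤ n by
    obtain ⟨D, hD, l, hl, h⟩ := key (n + 1)
    refine ⟨D, hD, l, hl, fun x => ?_⟩
    by_contra! hx
    have := h ⟨closure {x}, isIrreducible_singleton.closure, isClosed_closure⟩ fun i z hz hzi =>
      hx i ((specializes_iff_mem_closure.2 hz).mem_open (ι ⁻¹ᵁ Proj.basicOpen _ (l i)).2 hzi)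
    have h2 : ((n + 1 : ℕ) : ℕ∞) ≤ (n : ℕ∞) := le_add_self.trans this
    norm_cast at h2
    omega
  intro j
  induction j with
  | zero =>
    refine ⟨1, one_pos, fun i => i.elim0, fun i => i.elim0, fun T _ => ?_⟩
    rw [Nat.cast_zero, add_zero]
    have := (height_le_krullDim T).trans hn
    exact_mod_cast this
  | succ j ih =>
    obtain ⟨D, hD, l, hl, h⟩ := ih
    let Z : Set X := (⋃ i, (ι ⁻¹ᵁ Proj.basicOpen (CohB1.polyGrading N k) (l i) : Set X))ᶜ
    have hZ : IsClosed Z := (isOpen_iUnion fun i => (ι ⁻¹ᵁ _).2).isClosed_compl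
    obtain ⟨S, hSf, hSc, hSi, hSU⟩ := NoetherianSpace.exists_finite_set_isClosed_irreducible hZ
    choose g hg using fun t : S => QuasiSober.sober (hSi t.1 t.2) (hSc t.1 t.2)
    haveI := hSf.to_subtype
    obtain ⟨e, l₀, he, hl₀, hl₀F⟩ := exists_form (k := k) (Set.range fun t => ι (g t)) (Set.finite_range _)
    have hmem : ∀ {a b : ℕ} {x : MvPolynomial (Fin (N + 1)) k}, x ∈ CohB1.polyGrading N k a →
        x ^ b ∈ CohB1.polyGrading N k (b * a) := fun {a b x} hx => by
      simpa using SetLike.pow_mem_graded b hx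
    have hb : ∀ {x : MvPolynomial (Fin (N + 1)) k} {b : ℕ}, 0 < b →
        Proj.basicOpen (CohB1.polyGrading N k) (x ^ b) = Proj.basicOpen (CohB1.polyGrading N k) x :=
      fun {x b} hb => Proj.basicOpen_pow _ _ _ hb
    refine ⟨e * D, Nat.mul_pos he hD, Fin.snoc (fun i => l i ^ e) (l₀ ^ D),
      Fin.lastCases (by simpa [mul_comm e D] using hmem hl₀) fun i => by simpa using hmem (hl i),
      fun T hT => ?_⟩
    have hTZ : (T : Set X) ⊆ Z := fun x hx => by
      simp only [Z, Set.mem_compl_iff, Set.mem_iUnion, not_exists]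
      intro i hi
      exact hT i.castSucc x hx (by simpa [hb he] using hi)
    obtain ⟨t, htS, htT⟩ := isIrreducible_iff_sUnion_isClosed.1 T.2 hSf.toFinset (fun t ht => hSc t (hSf.mem_toFinset.1 ht))
      (by rw [hSf.coe_toFinset, ← hSU]; exact hTZ)
    rw [hSf.mem_toFinset] at htS
    let C : IrreducibleCloseds X := ⟨t, hSi t htS, hSc t htS⟩
    have hlt : T < C := lt_of_le_of_ne htT fun eq => by
      refine hT (Fin.last j) (g ⟨t, htS⟩) ?_ (by simpa [hb hD] using hl₀F _ ⟨⟨t, htS⟩, rfl⟩)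
      rw [eq]
      exact (hg ⟨t, htS⟩).mem
    have hC := h C fun i x hx hxi => by
      have : x ∈ Z := hSU ▸ ⟨t, htS, hx⟩
      exact this (Set.mem_iUnion.2 ⟨i, hxi⟩)
    calc height T + ((j + 1 : ℕ) : ℕ∞) = height T + 1 + j := by push_cast; ring
      _ ≤ height C + j := by gcongr; exact height_add_one_le hlt
      _ ≤ n := hC

/-- A projective scheme of dimension at most `n` over a field is finite over projective `n`-space. -/
theorem exists_finite_projSpace (f : X ⟶ Spec (CommRingCat.of k)) {N : ℕ} (ι : X ⟶ CohB1.ProjSpace N k)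
    [IsClosedImmersion ι] (hι : ι ≫ CohB1.ProjSpace.toSpec N k = f) (n : ℕ) (hn : topologicalKrullDim X ≤ n) :
    ∃ π : X ⟶ CohB1.ProjSpace n k, π ≫ CohB1.ProjSpace.toSpec n k = f ∧ IsFinite π := by
  haveI := PnCoh.Chow.isProper_toSpec N k
  haveI : IsProper f := hι ▸ inferInstance
  haveI : IsNoetherian X :=
    { __ := LocallyOfFiniteType.isLocallyNoetherian f
      __ := QuasiCompact.compactSpace_of_compactSpace f }
  obtain ⟨D, hD, l, hl, hcov⟩ := exists_forms ι n hn
  let L := (Scheme.Modules.pullback ι).obj (Twist.twistProjSpace N k (D : ℤ))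
  have hN : PicF.IsInvertible (Twist.twistProjSpace N k (D : ℤ)) :=
    PnCoh.Finite.isInvertible_twist (fun j : ULift.{u} (Fin (N + 1)) => MvPolynomial.X j.down)
      (fun j => ProjPt.X_mem j.down) (top_le_iff.1 ((AmpleEmbed.iSup_basicOpen_X N k).ge.trans
        (iSup_le fun j => le_iSup_of_le (ULift.up j) le_rfl))) (D : ℤ)
  have hL : PicF.IsInvertible L := PicClLib.isInvertible_pullback ι hN
  let s : Fin (n + 1) → Γ(L, ⊤) := fun i =>
    ProjUP.pullSec ι (Twist.twistProjSpace N k (D : ℤ)) (secDeg (CohB1.polyGrading N k) (hl i))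
  have hlocus : ∀ i, TrivBasic.locus (s i) = ι ⁻¹ᵁ Proj.basicOpen (CohB1.polyGrading N k) (l i) := fun i => by
    refine (TrivBasic.locus_pullElt hN ι _).trans ?_
    congr 1
    exact genLocus_secDeg (CohB1.polyGrading N k) (fun j : Fin (N + 1) => MvPolynomial.X j)
      (fun j => ProjPt.X_mem j) (AmpleEmbed.iSup_basicOpen_X N k) hD (hl i)
  have hs : ProjUP.GeneratedBy L s := fun x => by
    obtain ⟨i, hi⟩ := hcov x
    have hxi : x ∈ TrivBasic.locus (s i) := by rw [hlocus]; exact hi
    refine eq_top_iff.2 fun z _ => ?_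
    obtain ⟨c, hc⟩ := ((TrivBasic.isFrame_res_of_le_locus (le_refl (TrivBasic.locus (s i)))).germ_bijective hxi).2 z
    rw [← hc]
    refine Submodule.smul_mem _ c (Submodule.subset_span ⟨i, ?_⟩)
    exact (InvX.germ_res' (le_top : TrivBasic.locus (s i) ≤ ⊤) hxi (s i)).symm
  obtain ⟨π, hπ, τ, hτ⟩ := S3572.result n f L hL s hs
  refine ⟨π, hπ, ?_⟩
  haveI := PnCoh.Chow.isProper_toSpec n k
  haveI : IsProper (π ≫ CohB1.ProjSpace.toSpec n k) := hπ ▸ ‹IsProper f›
  haveI : IsProper π := IsProper.of_comp π (CohB1.ProjSpace.toSpec n k)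
  haveI : IsAffineHom π := isAffineHom_of_forall_exists_isAffineOpen π fun y => by
    obtain ⟨i, hi⟩ := ProjUPX.cov_X y
    refine ⟨_, hi, Proj.isAffineOpen_basicOpen _ _ (ProjPt.X_mem i) one_pos, ?_⟩
    rw [AmpleEmbed.preimage_chart π τ i (hτ i), hlocus]
    exact (Proj.isAffineOpen_basicOpen _ _ (hl i) hD).preimage ι
  exact (IsFinite.iff_isProper_and_isAffineHom).2 ⟨inferInstance, inferInstance⟩

end Groth.Agent.SerreVan45
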