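import Groth.Agent.SerreVan45.Main
import Groth.Agent.SurfInt.Ideal

/-!
# Duality vanishing for ideals of effective Cartier divisors on varieties with an ample module
-/

set_option autoImplicit false
set_option linter.style.haveILetI false

universe u

open CategoryTheory AlgebraicGeometry

namespace Groth.Agent.SerreVan45

/-- The duality hypothesis of the logarithmic vanishing theorems. -/
theorem exists_dual_vanishing_ideal {k : Type u} [Field k] {X : Scheme.{u}} [IsIntegral X]
    (f : X ⟶ Spec (CommRingCat.of k)) [IsProper f] [Smooth f] {H : X.Modules} (hH : CohB1.IsAmple H) (n : ℕ)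
    (hn : topologicalKrullDim X = n) :
    ∀ F : X.Modules, FlatMod.IsFinLocFree F → ∃ G : X.Modules, Coh.IsCoh G ∧
      ∀ (I : X.IdealSheafData), BlowUp.IsEffCartierIdeal I → ∀ M : X.Modules,
        ClSub.IsInverseOf M (ClSub.idealMod I) → ∀ q : ℕ, q ≤ n →
          Subsingleton (Coh.HH X (CohB1.tensorMod G M) (n - q)) →
            Subsingleton (Coh.HH X (CohB1.tensorMod F (ClSub.idealMod I)) q) := by
  intro F hF
  obtain ⟨N, ι, hι, hιf⟩ := AmpleEmbed.exists_closedImmersion f hH
  haveI := hι
  obtain ⟨G, hG, h⟩ := exists_dual_vanishing f ι hιf n hn F hF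
  exact ⟨G, hG, fun I hI => h _ (SurfInt.isInvertible_idealMod hI)⟩

end Groth.Agent.SerreVan45
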