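import Groth.Agent.AmpleVan.Tw
import Groth.Agent.AmpleVan.AdicBase
import Groth.Agent.RPSM.QCohGen
import Groth.Agent.KFlatLib.Scheme.PushCoprod
import Groth.Agent.KFlatLib.Scheme.InnerHom

/-!
# The right adjoint of twisted direct image along an affine morphism on quasi-coherent modules
-/

set_option autoImplicit false
set_option linter.style.haveILetI false
set_option backward.isDefEq.respectTransparency false
set_option backward.isDefEq.respectTransparency.types false

universe u

open CategoryTheory CategoryTheory.Limits AlgebraicGeometry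

noncomputable section

namespace Groth.Agent.SerreVan45

variable {X P : Scheme.{u}} (π : X ⟶ P)

/-- Direct image of quasi-coherent modules. -/
abbrev pushQ : QCohCat.QCoh X ⥤ P.Modules := (QCohCat.isQCoh X).ι ⋙ Scheme.Modules.pushforward π

variable {F : X.Modules} (hF : Coh.IsQCoh F)

/-- `- ⊗ F` on quasi-coherent modules. -/
abbrev twQ : QCohCat.QCoh X ⥤ QCohCat.QCoh X :=
  (QCohCat.isQCoh X).lift ((QCohCat.isQCoh X).ι ⋙ AmpleVan.tw F) fun A => KFlatLib.isQCoh_tensor A.property hF

instance preservesColimitsOfSize_twQ : PreservesColimitsOfSize.{u, u} (twQ hF) where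
  preservesColimitsOfShape {J} _ := by
    haveI : PreservesColimitsOfShape J (twQ hF ⋙ (QCohCat.isQCoh X).ι) :=
      inferInstanceAs (PreservesColimitsOfShape J ((QCohCat.isQCoh X).ι ⋙ AmpleVan.tw F))
    exact preservesColimitsOfShape_of_reflects_of_preserves (twQ hF) (QCohCat.isQCoh X).ι

variable [IsAffineHom π]

theorem preservesFiniteColimits_pushQ : PreservesFiniteColimits (pushQ π) := by
  haveI : PreservesLimitsOfSize.{0, 0} (Scheme.Modules.pushforward π) :=
    (Scheme.Modules.pullbackPushforwardAdjunction π).rightAdjoint_preservesLimits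
  haveI : PreservesFiniteLimits (Scheme.Modules.pushforward π) := PreservesLimitsOfSize.preservesFiniteLimits _
  rw [Functor.preservesFiniteColimits_iff_forall_exact_map_and_epi]
  intro S hS
  haveI : PreservesFiniteLimits (pushQ π) := inferInstance
  haveI : Epi ((QCohCat.isQCoh X).ι.map S.g) := by
    haveI := hS.epi_g
    exact Functor.map_epi _ _
  refine ⟨?_, AmpleVan.epi_push π S.X₂.property S.X₃.property ((QCohCat.isQCoh X).ι.map S.g)⟩
  haveI := hS.mono_f
  have key : ∀ T : ShortComplex (QCohCat.QCoh X), T.ShortExact → (T.map (pushQ π)).Exact ∧ Mono ((pushQ π).map T.f) :=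
    ((Functor.preservesFiniteLimits_tfae (pushQ π)).out 3 0 rfl rfl).1 (by assumption)
  exact (key S hS).1

theorem preservesColimitsOfSize_pushQ : PreservesColimitsOfSize.{u, u} (pushQ π) := by
  haveI := preservesFiniteColimits_pushQ π
  haveI : ∀ J : Type u, PreservesColimitsOfShape (Discrete J) (pushQ π) := fun J => by
    haveI := KFlatLib.preservesColimitsOfShape_push_discrete (J := J) π
    exact inferInstanceAs (PreservesColimitsOfShape (Discrete J) ((QCohCat.isQCoh X).ι ⋙ Scheme.Modules.pushforward π))
  exact preservesColimits_of_preservesCoequalizers_and_coproducts _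

/-- The twisted direct image. -/
abbrev Phi : QCohCat.QCoh X ⥤ P.Modules := twQ hF ⋙ pushQ π


theorem isLeftAdjoint_Phi : (Phi π hF).IsLeftAdjoint := by
  haveI := preservesColimitsOfSize_pushQ π
  exact RPSM.isLeftAdjoint_of_preservesColimits X (Phi π hF)

/-- The twisted upper shriek. -/
def shriekQ : P.Modules ⥤ QCohCat.QCoh X :=
  haveI := isLeftAdjoint_Phi π hF
  (Phi π hF).rightAdjoint

/-- The adjunction. -/
def shriekAdj : Phi π hF ⊣ shriekQ π hF :=
  haveI := isLeftAdjoint_Phi π hF
  Adjunction.ofIsLeftAdjoint (Phi π hF)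

end Groth.Agent.SerreVan45
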